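import Cfsg.Agent.H5.Heis.Abs
import Cfsg.Agent.H321.Ker.Base
import Cfsg.Agent.H919.AschBurnside

/-!
# S2187, kernel row: the extraspecial group `p^{1+2}` in `GL_p(F)` (helper5)
-/

set_option autoImplicit false
set_option linter.unusedSectionVars false

namespace Cfsg.Agent.H5.Heis

open Cfsg Cfsg.Geo Cfsg.Agent.H321.Ker
open scoped MatrixGroups Matrix

section

variable {n : ℕ} [NeZero n] {F : Type*} [Field F]

theorem coe_Dm (ζ : Fˣ) : ((Dm n ζ : GL (Fin n) F) : Matrix (Fin n) (Fin n) F) =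
    Matrix.diagonal fun i : Fin n => ((ζ ^ (i : ℕ) : Fˣ) : F) := rfl

theorem Bm_pow (m : ℕ) : (((Bm n (1 : Fˣ)) ^ m : GL (Fin n) F) : Matrix (Fin n) (Fin n) F) =
    Matrix.of fun i j : Fin n => if (i : ℕ) = ((j : ℕ) + m) % n then (1 : F) else 0 := by
  induction m with
  | zero =>
    ext i j
    simp [Matrix.one_apply, Nat.mod_eq_of_lt, Fin.ext_iff]
  | succ m ih =>
    rw [pow_succ, Units.val_mul, ih]
    ext i j
    rw [Matrix.mul_apply, Finset.sum_eq_single (j + 1)]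
    · have h1 : ((Bm n (1 : Fˣ) : GL (Fin n) F) : Matrix (Fin n) (Fin n) F) (j + 1) j = 1 := by
        show (if j + 1 = j + 1 then (if j + 1 = 0 then ((1 : Fˣ) : F) else 1) else 0) = 1
        rw [if_pos rfl]; split_ifs <;> simp
      rw [h1, mul_one, Matrix.of_apply, Matrix.of_apply]
      have h2 : (((j + 1 : Fin n) : ℕ) + m) % n = ((j : ℕ) + (m + 1)) % n := by
        rw [Fin.val_add, Fin.val_one', Nat.add_mod_mod, Nat.mod_add_mod]
        congr 1
        ring
      rw [h2]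
    · intro k _ hk
      have h1 : ((Bm n (1 : Fˣ) : GL (Fin n) F) : Matrix (Fin n) (Fin n) F) k j = 0 := by
        show (if k = j + 1 then (if k = 0 then ((1 : Fˣ) : F) else 1) else 0) = 0
        rw [if_neg hk]
      rw [h1, mul_zero]
    · intro h; exact absurd (Finset.mem_univ _) h

/-- the scalar -/
def sc (n : ℕ) (ζ : Fˣ) : GL (Fin n) F := Units.map (Matrix.scalar (Fin n) : F →+* Matrix (Fin n) (Fin n) F).toMonoidHom ζ

theorem coe_sc (ζ : Fˣ) : ((sc n ζ : GL (Fin n) F) : Matrix (Fin n) (Fin n) F) = Matrix.diagonal fun _ => (ζ : F) := rfl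

theorem sc_comm (ζ : Fˣ) (x : GL (Fin n) F) : Commute (sc n ζ) x := by
  apply Units.ext
  rw [Units.val_mul, Units.val_mul, coe_sc]
  exact (Matrix.scalar_commute (ζ : F) (fun r => Commute.all _ _) (x : Matrix (Fin n) (Fin n) F)).eq

theorem DB (ζ : Fˣ) (hζ : ζ ^ n = 1) : Dm n ζ * Bm n (1 : Fˣ) = sc n ζ * Bm n (1 : Fˣ) * Dm n ζ := by
  apply Units.ext
  rw [Units.val_mul, Units.val_mul, Units.val_mul, coe_sc, coe_Dm]
  ext i j
  rw [Matrix.diagonal_mul, Matrix.mul_diagonal, Matrix.diagonal_mul]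
  show ((ζ ^ (i : ℕ) : Fˣ) : F) * (if i = j + 1 then (if i = 0 then ((1 : Fˣ) : F) else 1) else 0) =
    (ζ : F) * (if i = j + 1 then (if i = 0 then ((1 : Fˣ) : F) else 1) else 0) * ((ζ ^ (j : ℕ) : Fˣ) : F)
  split_ifs with h1 h2
  · rw [h1, Units.val_one, mul_one, mul_one, ← Units.val_mul, ← pow_succ']
    congr 1
    rw [Fin.val_add, Fin.val_one', ← pow_eq_pow_mod _ hζ, pow_add, pow_succ, ← pow_eq_pow_mod _ hζ, pow_one]
  · rw [h1, mul_one, mul_one, ← Units.val_mul, ← pow_succ']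
    congr 1
    rw [Fin.val_add, Fin.val_one', ← pow_eq_pow_mod _ hζ, pow_add, pow_succ, ← pow_eq_pow_mod _ hζ, pow_one]
  · simp

end

theorem rel {p : ℕ} [hp : Fact p.Prime] (h2 : p ≠ 2) {F : Type*} [Field F] (ζ : Fˣ) (hζ : ζ ^ p = 1) (hζ1 : ζ ≠ 1) :
    haveI : NeZero p := ⟨hp.1.ne_zero⟩
    Rel p (sc p ζ) (Dm p ζ) (Bm p (1 : Fˣ)) := by
  have : NeZero p := ⟨hp.1.ne_zero⟩
  refine ⟨h2, sc_comm _ _, sc_comm _ _, ?_, ?_, ?_, ?_, DB ζ hζ⟩
  · rw [sc, ← map_pow, hζ, map_one]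
  · intro h
    apply hζ1
    have h1 : ((sc p ζ : GL (Fin p) F) : Matrix (Fin p) (Fin p) F) 0 0 =
        ((1 : GL (Fin p) F) : Matrix (Fin p) (Fin p) F) 0 0 := by rw [h]
    rw [coe_sc, Matrix.diagonal_apply_eq, Units.val_one, Matrix.one_apply_eq] at h1
    exact Units.ext h1
  · apply Units.ext
    have h1 : ∀ m : ℕ, (((Dm p ζ) ^ m : GL (Fin p) F) : Matrix (Fin p) (Fin p) F) =
        Matrix.diagonal fun i : Fin p => ((ζ ^ ((i : ℕ) * m) : Fˣ) : F) := by
      intro m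
      induction m with
      | zero => simp
      | succ m ih =>
        rw [pow_succ, Units.val_mul, ih, coe_Dm, Matrix.diagonal_mul_diagonal]
        congr 1
        funext i
        rw [← Units.val_mul, ← pow_add, Nat.mul_succ]
    rw [h1, Units.val_one, ← Matrix.diagonal_one]
    congr 1
    funext i
    rw [mul_comm, pow_mul, hζ, one_pow, Units.val_one]
  · apply Units.ext
    rw [Bm_pow]
    ext i j
    simp [Matrix.one_apply, Nat.mod_eq_of_lt, Fin.ext_iff]

theorem adjoin_eq_top {p : ℕ} [hp : Fact p.Prime] {F : Type*} [Field F] (ζ : Fˣ) (hζ : ζ ^ p = 1) (hζ1 : ζ ≠ 1) :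
    haveI : NeZero p := ⟨hp.1.ne_zero⟩
    Algebra.adjoin F (matrixSet (Subgroup.closure {Dm p ζ, Bm p (1 : Fˣ)} : Subgroup (GL (Fin p) F))) = ⊤ := by
  have : NeZero p := ⟨hp.1.ne_zero⟩
  set A := Algebra.adjoin F (matrixSet (Subgroup.closure {Dm p ζ, Bm p (1 : Fˣ)} : Subgroup (GL (Fin p) F))) with hA
  have hD : ((Dm p ζ : GL (Fin p) F) : Matrix (Fin p) (Fin p) F) ∈ A :=
    Algebra.subset_adjoin ⟨_, Subgroup.subset_closure (by simp), rfl⟩
  have hB : ∀ m : ℕ, (((Bm p (1 : Fˣ)) ^ m : GL (Fin p) F) : Matrix (Fin p) (Fin p) F) ∈ A := fun m =>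
    Algebra.subset_adjoin ⟨_, pow_mem (Subgroup.subset_closure (by simp)) m, rfl⟩
  have ho : orderOf ζ = p := orderOf_eq_prime hζ hζ1
  have hinj : Function.Injective fun i : Fin p => ((ζ ^ (i : ℕ) : Fˣ) : F) := by
    intro i j hij
    have h1 : ζ ^ (i : ℕ) = ζ ^ (j : ℕ) := Units.ext hij
    exact Fin.ext (pow_injOn_Iio_orderOf (by rw [ho]; exact i.2) (by rw [ho]; exact j.2) h1)
  -- the diagonal idempotents
  have hE : ∀ i : Fin p, Matrix.diagonal (Pi.single i (1 : F)) ∈ A := by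
    intro i
    let P := Lagrange.interpolate Finset.univ (fun i : Fin p => ((ζ ^ (i : ℕ) : Fˣ) : F)) (Pi.single i (1 : F))
    have h1 : Polynomial.aeval ((Dm p ζ : GL (Fin p) F) : Matrix (Fin p) (Fin p) F) P =
        Matrix.diagonal (Pi.single i (1 : F)) := by
      rw [coe_Dm]
      have h2 := Polynomial.aeval_algHom_apply (Matrix.diagonalAlgHom (n := Fin p) (α := F) F)
        (fun i : Fin p => ((ζ ^ (i : ℕ) : Fˣ) : F)) P
      rw [Matrix.diagonalAlgHom_apply, Matrix.diagonalAlgHom_apply] at h2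
      rw [h2]
      congr 1
      funext j
      rw [Polynomial.aeval_pi_apply₂]
      show Polynomial.aeval (((ζ ^ (j : ℕ) : Fˣ) : F)) P = _
      rw [Polynomial.coe_aeval_eq_eval]
      exact Lagrange.eval_interpolate_at_node _ (hinj.injOn) (Finset.mem_univ j)
    rw [← h1]
    exact (Algebra.adjoin_le (S := A) (Set.singleton_subset_iff.2 hD)) (Polynomial.aeval_mem_adjoin_singleton F _)
  have hs : ∀ (i j : Fin p), (Matrix.single i j (1 : F) : Matrix (Fin p) (Fin p) F) ∈ A := by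
    intro i j
    have h1 : (Matrix.single i j (1 : F) : Matrix (Fin p) (Fin p) F) = Matrix.diagonal (Pi.single i (1 : F)) *
        (((Bm p (1 : Fˣ)) ^ ((i - j : Fin p) : ℕ) : GL (Fin p) F) : Matrix (Fin p) (Fin p) F) := by
      rw [Bm_pow]
      ext a b
      rw [Matrix.diagonal_mul, Matrix.of_apply, Matrix.single_apply]
      have hv : ((b : ℕ) + ((i - j : Fin p) : ℕ)) % p = ((b + (i - j) : Fin p) : ℕ) := (Fin.val_add b (i - j)).symm
      by_cases h : i = a
      · subst h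
        rw [Pi.single_eq_same, one_mul, hv]
        by_cases h2 : j = b
        · subst h2
          rw [if_pos ⟨rfl, rfl⟩, if_pos (by rw [add_sub_cancel])]
        · rw [if_neg (fun h => h2 h.2), if_neg]
          intro h3
          apply h2
          have h3' : i = b + (i - j) := Fin.ext h3
          have h4 : b + (i - j) = i + (b - j) := by abel
          rw [h4] at h3'
          have h5 : b - j = 0 := left_eq_add.1 h3'
          exact (sub_eq_zero.1 h5).symm
      · rw [if_neg (fun h' => h h'.1), Pi.single_eq_of_ne (Ne.symm h), zero_mul]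
    rw [h1]
    exact mul_mem (hE i) (hB _)
  rw [eq_top_iff]
  intro X _
  rw [Matrix.matrix_eq_sum_single X]
  refine sum_mem fun i _ => sum_mem fun j _ => ?_
  have h1 : (Matrix.single i j (X i j) : Matrix (Fin p) (Fin p) F) = X i j • Matrix.single i j (1 : F) := by
    rw [Matrix.smul_single, smul_eq_mul, mul_one]
  rw [h1]
  exact Subalgebra.smul_mem _ (hs i j) _

/-- **The extraspecial group of order `p³`.** -/
theorem heis {p : ℕ} [hp : Fact p.Prime] (h2 : p ≠ 2) {F : Type*} [Field F] [Fintype F] (ζ : Fˣ) (hζ : ζ ^ p = 1)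
    (hζ1 : ζ ≠ 1) :
    haveI : NeZero p := ⟨hp.1.ne_zero⟩
    Cfsg.Geo.IsSymplecticTypeGroup p (Subgroup.closure {Dm p ζ, Bm p (1 : Fˣ)}) ∧
      Cfsg.Geo.ActsAbsolutelyIrreducibly (Cfsg.Geo.matrixSet (Subgroup.closure {Dm p ζ, Bm p (1 : Fˣ)})) ∧
      Nat.card (Subgroup.closure {Dm p ζ, Bm p (1 : Fˣ)}) = p ^ 3 ∧
      Nat.card (Subgroup.center (Subgroup.closure {Dm p ζ, Bm p (1 : Fˣ)})) = p := by
  have : NeZero p := ⟨hp.1.ne_zero⟩
  have h := rel h2 ζ hζ hζ1
  refine ⟨?_, ?_, ?_, ?_⟩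
  · rw [h.closure_eq]
    refine ⟨hp.1, h.isPGroup, h.cyclic_of_characteristic, ?_⟩
    rw [h.exponent_eq]
    have h3 : Nat.gcd 2 p = 1 := (Nat.coprime_primes Nat.prime_two hp.1).2 (Ne.symm h2)
    rw [h3, mul_one]
  · rw [H919.absIrr_iff]
    exact adjoin_eq_top ζ hζ hζ1
  · rw [h.closure_eq]
    exact h.card_grp
  · rw [h.closure_eq]
    exact h.card_center

end Cfsg.Agent.H5.Heis
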