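import Mathlib

/-!
# Extraspecial groups of order `p³` and exponent `p` (helper5)

`a b = z b a`, `z` central of order `p`, `a ^ p = b ^ p = 1`, `p` odd: `E k i j = z ^ (k - i j / 2) a ^ i b ^ j`.
-/

set_option autoImplicit false
set_option linter.unusedSectionVars false

namespace Cfsg.Agent.H5.Heis

variable {G : Type*} [Group G] {p : ℕ} [hp : Fact p.Prime]

/-- power with exponent modulo `p` -/
def pw (x : G) (a : ZMod p) : G := x ^ a.val

theorem pw_zero (x : G) : pw x (0 : ZMod p) = 1 := by rw [pw, ZMod.val_zero, pow_zero]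

theorem pw_one (x : G) : pw x (1 : ZMod p) = x := by
  have := Fact.mk hp.1.one_lt
  rw [pw, ZMod.val_one, pow_one]

theorem pw_add {x : G} (hx : x ^ p = 1) (a b : ZMod p) : pw x (a + b) = pw x a * pw x b := by
  rw [pw, pw, pw, ← pow_add, ZMod.val_add]
  exact (pow_eq_pow_mod _ hx).symm

theorem pw_eq_one {x : G} (hx : x ^ p = 1) (hx1 : x ≠ 1) {a : ZMod p} (h : pw x a = 1) : a = 0 := by
  have h1 : orderOf x = p := orderOf_eq_prime hx hx1
  have h2 : p ∣ a.val := (dvd_of_eq h1.symm).trans (orderOf_dvd_of_pow_eq_one (show x ^ a.val = 1 from h))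
  rw [← ZMod.natCast_zmod_val a]
  exact (ZMod.natCast_eq_zero_iff _ _).2 h2

/-- the relations -/
structure Rel (p : ℕ) (z a b : G) : Prop where
  odd : p ≠ 2
  za : Commute z a
  zb : Commute z b
  zp : z ^ p = 1
  z1 : z ≠ 1
  ap : a ^ p = 1
  bp : b ^ p = 1
  ab : a * b = z * b * a

namespace Rel

variable {z a b : G} (h : Rel p z a b)
include h

theorem ab_pow (m : ℕ) : a * b ^ m = z ^ m * b ^ m * a := by
  induction m with
  | zero => simp
  | succ m ih =>
    have h1 : b ^ m * z = z * b ^ m := (h.zb.pow_right m).eq.symm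
    calc a * b ^ (m + 1) = (a * b ^ m) * b := by rw [pow_succ, mul_assoc]
      _ = z ^ m * b ^ m * (a * b) := by rw [ih, mul_assoc]
      _ = z ^ m * (b ^ m * z) * b * a := by rw [h.ab]; group
      _ = z ^ (m + 1) * b ^ (m + 1) * a := by rw [h1, pow_succ, pow_succ]; group

theorem pow_pow (n m : ℕ) : a ^ n * b ^ m = z ^ (n * m) * b ^ m * a ^ n := by
  induction n with
  | zero => simp
  | succ n ih =>
    have h1 : a * z ^ (n * m) = z ^ (n * m) * a := ((h.za.pow_left (n * m)).eq).symm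
    calc a ^ (n + 1) * b ^ m = a * (a ^ n * b ^ m) := by rw [pow_succ', mul_assoc]
      _ = (a * z ^ (n * m)) * b ^ m * a ^ n := by rw [ih]; group
      _ = z ^ (n * m) * (a * b ^ m) * a ^ n := by rw [h1]; group
      _ = z ^ (n * m) * (z ^ m * b ^ m * a) * a ^ n := by rw [h.ab_pow]
      _ = z ^ ((n + 1) * m) * b ^ m * a ^ (n + 1) := by
        rw [add_mul, one_mul, pow_add, pow_succ' a]; group

theorem pw_comm (i j : ZMod p) : pw a i * pw b j = pw z (i * j) * pw b j * pw a i := by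
  rw [pw, pw, pw, h.pow_pow, ZMod.val_mul, ← pow_eq_pow_mod _ h.zp]

theorem pw_comm' (i j : ZMod p) : pw b j * pw a i = pw z (-(i * j)) * pw a i * pw b j := by
  have h1 : pw z (-(i * j)) * pw z (i * j) = 1 := by rw [← pw_add h.zp, neg_add_cancel, pw_zero]
  calc pw b j * pw a i = (pw z (-(i * j)) * pw z (i * j)) * pw b j * pw a i := by rw [h1, one_mul]
    _ = pw z (-(i * j)) * (pw z (i * j) * pw b j * pw a i) := by group
    _ = _ := by rw [← h.pw_comm]; group

theorem z_comm_a (k i : ZMod p) : pw a i * pw z k = pw z k * pw a i := ((h.za.pow_pow _ _).eq).symm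

theorem z_comm_b (k i : ZMod p) : pw b i * pw z k = pw z k * pw b i := ((h.zb.pow_pow _ _).eq).symm

end Rel

/-- the coordinates -/
def E (z a b : G) (v : ZMod p × ZMod p × ZMod p) : G :=
  pw z (v.1 - 2⁻¹ * (v.2.1 * v.2.2)) * pw a v.2.1 * pw b v.2.2

/-- the multiplication in coordinates -/
def mu (v w : ZMod p × ZMod p × ZMod p) : ZMod p × ZMod p × ZMod p :=
  (v.1 + w.1 + 2⁻¹ * (v.2.1 * w.2.2 - w.2.1 * v.2.2), v.2.1 + w.2.1, v.2.2 + w.2.2)

namespace Rel

variable {z a b : G} (h : Rel p z a b)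
include h

theorem two_ne : (2 : ZMod p) ≠ 0 := by
  intro h2
  have h3 : p ∣ 2 := (ZMod.natCast_eq_zero_iff 2 p).1 (by exact_mod_cast h2)
  exact h.odd ((Nat.prime_dvd_prime_iff_eq hp.1 Nat.prime_two).1 h3)

theorem E_mul (v w : ZMod p × ZMod p × ZMod p) : E z a b v * E z a b w = E z a b (mu v w) := by
  obtain ⟨k, i, j⟩ := v
  obtain ⟨k', i', j'⟩ := w
  simp only [E, mu]
  have h1 := h.pw_comm' i' j
  have h2 : (2 : ZMod p)⁻¹ * 2 = 1 := inv_mul_cancel₀ h.two_ne
  have e : k + k' + 2⁻¹ * (i * j' - i' * j) - 2⁻¹ * ((i + i') * (j + j')) =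
      (k - 2⁻¹ * (i * j)) + (k' - 2⁻¹ * (i' * j')) + -(i' * j) := by
    linear_combination (-(i' * j)) * h2
  rw [e, pw_add h.zp, pw_add h.zp, pw_add h.ap, pw_add h.bp]
  calc pw z (k - 2⁻¹ * (i * j)) * pw a i * pw b j * (pw z (k' - 2⁻¹ * (i' * j')) * pw a i' * pw b j')
      = pw z (k - 2⁻¹ * (i * j)) * pw a i * (pw b j * pw z (k' - 2⁻¹ * (i' * j'))) * pw a i' * pw b j' := by group
    _ = pw z (k - 2⁻¹ * (i * j)) * (pw a i * pw z (k' - 2⁻¹ * (i' * j'))) * (pw b j * pw a i') * pw b j' := by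
      rw [h.z_comm_b]; group
    _ = pw z (k - 2⁻¹ * (i * j)) * pw z (k' - 2⁻¹ * (i' * j')) * (pw a i * pw z (-(i' * j))) * pw a i' * pw b j *
        pw b j' := by rw [h.z_comm_a, h1]; group
    _ = _ := by rw [h.z_comm_a]; group

theorem E_zero : E z a b ((0, 0, 0) : ZMod p × ZMod p × ZMod p) = 1 := by
  simp [E, pw_zero]

theorem E_z : E z a b ((1, 0, 0) : ZMod p × ZMod p × ZMod p) = z := by
  simp [E, pw_zero, pw_one]

theorem E_a : E z a b ((0, 1, 0) : ZMod p × ZMod p × ZMod p) = a := by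
  simp [E, pw_zero, pw_one]

theorem E_b : E z a b ((0, 0, 1) : ZMod p × ZMod p × ZMod p) = b := by
  simp [E, pw_zero, pw_one]

theorem E_eq_one {v : ZMod p × ZMod p × ZMod p} (hv : E z a b v = 1) : v = 0 := by
  -- the commutator with `w`
  have key : ∀ w : ZMod p × ZMod p × ZMod p, v.2.1 * w.2.2 - w.2.1 * v.2.2 = 0 := by
    intro w
    have h1 : E z a b (mu v w) = E z a b (mu w v) := by
      rw [← h.E_mul, ← h.E_mul, hv, one_mul, mul_one]
    have h2 : E z a b (mu v w) = pw z (v.2.1 * w.2.2 - w.2.1 * v.2.2) * E z a b (mu w v) := by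
      have h2 : (2 : ZMod p)⁻¹ * 2 = 1 := inv_mul_cancel₀ h.two_ne
      have e : (mu v w).1 - 2⁻¹ * ((mu v w).2.1 * (mu v w).2.2) = (v.2.1 * w.2.2 - w.2.1 * v.2.2) +
          ((mu w v).1 - 2⁻¹ * ((mu w v).2.1 * (mu w v).2.2)) := by
        simp only [mu]
        linear_combination (v.2.1 * w.2.2 - w.2.1 * v.2.2) * h2
      have e1 : (mu v w).2 = (mu w v).2 := by
        simp only [mu]
        rw [add_comm w.2.1, add_comm w.2.2]
      unfold E
      rw [e, pw_add h.zp, e1, mul_assoc, mul_assoc, mul_assoc]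
    rw [h1] at h2
    exact pw_eq_one h.zp h.z1 (mul_eq_right.1 h2.symm)
  have h1 := key (0, 0, 1)
  have h2 := key (0, 1, 0)
  obtain ⟨k, i, j⟩ := v
  simp at h1 h2
  subst h1 h2
  simp only [E, mul_zero, sub_zero, pw_zero, mul_one] at hv
  rw [pw_eq_one h.zp h.z1 hv]
  rfl

omit h in
theorem mu_neg (v : ZMod p × ZMod p × ZMod p) : mu v (-v) = 0 := by
  obtain ⟨k, i, j⟩ := v
  simp only [mu, Prod.fst_neg, Prod.snd_neg]
  refine Prod.ext ?_ (Prod.ext ?_ ?_)
  · show k + -k + 2⁻¹ * (i * -j - -i * j) = 0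
    ring
  · show i + -i = 0
    ring
  · show j + -j = 0
    ring

theorem E_inv (v : ZMod p × ZMod p × ZMod p) : E z a b (-v) = (E z a b v)⁻¹ := by
  rw [eq_inv_iff_mul_eq_one, h.E_mul]
  have h1 := mu_neg (-v)
  rw [neg_neg] at h1
  rw [h1]
  exact h.E_zero

theorem E_inj {v w : ZMod p × ZMod p × ZMod p} (he : E z a b v = E z a b w) : v = w := by
  have h1 : E z a b (mu v (-w)) = 1 := by rw [← h.E_mul, h.E_inv, he, mul_inv_cancel]
  have h2 := h.E_eq_one h1
  obtain ⟨k, i, j⟩ := v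
  obtain ⟨k', i', j'⟩ := w
  have e1 : i + -i' = 0 := congrArg (fun x => x.2.1) h2
  have e2 : j + -j' = 0 := congrArg (fun x => x.2.2) h2
  have e3 : k + -k' + 2⁻¹ * (i * -j' - -i' * j) = 0 := congrArg (fun x => x.1) h2
  have f1 : i = i' := by linear_combination e1
  have f2 : j = j' := by linear_combination e2
  subst f1 f2
  have f3 : k = k' := by linear_combination e3
  rw [f3]

theorem E_pow (v : ZMod p × ZMod p × ZMod p) (n : ℕ) : E z a b v ^ n = E z a b ((n : ZMod p) • v) := by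
  induction n with
  | zero => rw [pow_zero, Nat.cast_zero, zero_smul]; exact h.E_zero.symm
  | succ n ih =>
    rw [pow_succ, ih, h.E_mul]
    congr 1
    obtain ⟨k, i, j⟩ := v
    simp only [mu, Prod.smul_mk, smul_eq_mul]
    refine Prod.ext ?_ (Prod.ext ?_ ?_)
    · show (n : ZMod p) * k + k + 2⁻¹ * ((n : ZMod p) * i * j - i * ((n : ZMod p) * j)) = ((n + 1 : ℕ) : ZMod p) * k
      push_cast; ring
    · show (n : ZMod p) * i + i = ((n + 1 : ℕ) : ZMod p) * i
      push_cast; ring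
    · show (n : ZMod p) * j + j = ((n + 1 : ℕ) : ZMod p) * j
      push_cast; ring

/-- the group -/
def grp : Subgroup G where
  carrier := Set.range (E (p := p) z a b)
  mul_mem' := by
    rintro _ _ ⟨v, rfl⟩ ⟨w, rfl⟩
    exact ⟨_, (h.E_mul v w).symm⟩
  one_mem' := ⟨(0, 0, 0), h.E_zero⟩
  inv_mem' := by
    rintro _ ⟨v, rfl⟩
    exact ⟨_, h.E_inv v⟩

theorem mem_grp {x : G} : x ∈ h.grp ↔ ∃ v : ZMod p × ZMod p × ZMod p, E z a b v = x := Iff.rfl

theorem closure_eq : Subgroup.closure {a, b} = h.grp := by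
  apply le_antisymm
  · rw [Subgroup.closure_le]
    rintro x (rfl | rfl)
    · exact ⟨_, h.E_a⟩
    · exact ⟨_, h.E_b⟩
  · rintro _ ⟨v, rfl⟩
    have ha : a ∈ Subgroup.closure {a, b} := Subgroup.subset_closure (by simp)
    have hb : b ∈ Subgroup.closure {a, b} := Subgroup.subset_closure (by simp)
    have hz : z ∈ Subgroup.closure {a, b} := by
      have h1 : z = a * b * a⁻¹ * b⁻¹ := by rw [h.ab]; group
      rw [h1]
      exact mul_mem (mul_mem (mul_mem ha hb) (inv_mem ha)) (inv_mem hb)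
    exact mul_mem (mul_mem (pow_mem hz _) (pow_mem ha _)) (pow_mem hb _)

/-- the coordinates as an equivalence -/
noncomputable def eqv : (ZMod p × ZMod p × ZMod p) ≃ h.grp :=
  Equiv.ofBijective (fun v => ⟨E z a b v, v, rfl⟩)
    ⟨fun _ _ hvw => h.E_inj (congrArg Subtype.val hvw), fun ⟨_, v, hv⟩ => ⟨v, Subtype.ext hv⟩⟩

theorem coe_eqv (v : ZMod p × ZMod p × ZMod p) : (h.eqv v : G) = E z a b v := rfl

theorem eqv_mul (v w : ZMod p × ZMod p × ZMod p) : h.eqv v * h.eqv w = h.eqv (mu v w) :=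
  Subtype.ext (h.E_mul v w)

theorem card_grp : Nat.card h.grp = p ^ 3 := by
  rw [← Nat.card_congr h.eqv, Nat.card_prod, Nat.card_prod, Nat.card_zmod]
  ring

theorem isPGroup : IsPGroup p h.grp := IsPGroup.of_card h.card_grp

theorem exponent_eq : Monoid.exponent h.grp = p := by
  have h1 : Monoid.exponent h.grp ∣ p := by
    refine Monoid.exponent_dvd_of_forall_pow_eq_one fun x => ?_
    obtain ⟨v, rfl⟩ := h.eqv.surjective x
    apply Subtype.ext
    rw [SubmonoidClass.coe_pow, coe_eqv, h.E_pow, ZMod.natCast_self, zero_smul]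
    exact h.E_zero
  rcases (Nat.dvd_prime hp.1).1 h1 with h2 | h2
  · exfalso
    rw [Monoid.exp_eq_one_iff] at h2
    have h3 := h2.elim (h.eqv (1, 0, 0)) (h.eqv (0, 0, 0))
    have h4 := h.eqv.injective h3
    exact one_ne_zero (congrArg Prod.fst h4)
  · exact h2

theorem comm_iff (v w : ZMod p × ZMod p × ZMod p) :
    h.eqv v * h.eqv w = h.eqv w * h.eqv v ↔ v.2.1 * w.2.2 - w.2.1 * v.2.2 = 0 := by
  rw [h.eqv_mul, h.eqv_mul, h.eqv.injective.eq_iff]
  have h2 : (2 : ZMod p)⁻¹ * 2 = 1 := inv_mul_cancel₀ h.two_ne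
  obtain ⟨k, i, j⟩ := v
  obtain ⟨k', i', j'⟩ := w
  constructor
  · intro he
    have e : k + k' + 2⁻¹ * (i * j' - i' * j) = k' + k + 2⁻¹ * (i' * j - i * j') := congrArg Prod.fst he
    show i * j' - i' * j = 0
    linear_combination e - (i * j' - i' * j) * h2
  · intro he
    have he' : i * j' - i' * j = 0 := he
    refine Prod.ext ?_ (Prod.ext (add_comm _ _) (add_comm _ _))
    show k + k' + 2⁻¹ * (i * j' - i' * j) = k' + k + 2⁻¹ * (i' * j - i * j')
    linear_combination (2 * 2⁻¹) * he'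

theorem mem_center_iff' (v : ZMod p × ZMod p × ZMod p) : h.eqv v ∈ Subgroup.center h.grp ↔ v.2 = 0 := by
  rw [Subgroup.mem_center_iff]
  constructor
  · intro hc
    have h1 := (h.comm_iff _ _).1 (hc (h.eqv (0, 1, 0)))
    have h2 := (h.comm_iff _ _).1 (hc (h.eqv (0, 0, 1)))
    obtain ⟨k, i, j⟩ := v
    simp at h1 h2
    exact Prod.ext h2 h1
  · intro hv x
    obtain ⟨w, rfl⟩ := h.eqv.surjective x
    rw [h.comm_iff, hv]
    simp

theorem card_center : Nat.card (Subgroup.center h.grp) = p := by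
  have e : ZMod p ≃ Subgroup.center h.grp := Equiv.ofBijective
    (fun k => ⟨h.eqv (k, 0), (h.mem_center_iff' _).2 rfl⟩)
    ⟨fun k l hkl => congrArg Prod.fst (h.eqv.injective (congrArg Subtype.val hkl)), by
      rintro ⟨x, hx⟩
      obtain ⟨⟨k, v⟩, rfl⟩ := h.eqv.surjective x
      have hv : v = 0 := (h.mem_center_iff' _).1 hx
      subst hv
      exact ⟨k, rfl⟩⟩
  rw [← Nat.card_congr e, Nat.card_zmod]

/-- the automorphism given by a symplectic map -/
noncomputable def aut (g : (ZMod p × ZMod p) ≃ (ZMod p × ZMod p)) (hadd : ∀ v w, g (v + w) = g v + g w)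
    (hform : ∀ v w, (g v).1 * (g w).2 - (g w).1 * (g v).2 = v.1 * w.2 - w.1 * v.2) : h.grp ≃* h.grp where
  toEquiv := h.eqv.symm.trans (((Equiv.refl (ZMod p)).prodCongr g).trans h.eqv)
  map_mul' := by
    intro x y
    obtain ⟨v, rfl⟩ := h.eqv.surjective x
    obtain ⟨w, rfl⟩ := h.eqv.surjective y
    rw [h.eqv_mul]
    show h.eqv ((Equiv.refl (ZMod p)).prodCongr g (h.eqv.symm (h.eqv (mu v w)))) =
      h.eqv ((Equiv.refl (ZMod p)).prodCongr g (h.eqv.symm (h.eqv v))) *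
        h.eqv ((Equiv.refl (ZMod p)).prodCongr g (h.eqv.symm (h.eqv w)))
    rw [Equiv.symm_apply_apply, Equiv.symm_apply_apply, Equiv.symm_apply_apply, h.eqv_mul]
    congr 1
    obtain ⟨k, v⟩ := v
    obtain ⟨l, w⟩ := w
    show (k + l + 2⁻¹ * (v.1 * w.2 - w.1 * v.2), g (v.1 + w.1, v.2 + w.2)) =
      (k + l + 2⁻¹ * ((g v).1 * (g w).2 - (g w).1 * (g v).2), ((g v).1 + (g w).1, (g v).2 + (g w).2))
    rw [hform]
    congr 1
    exact hadd v w

theorem aut_eqv (g : (ZMod p × ZMod p) ≃ (ZMod p × ZMod p)) (hadd : ∀ v w, g (v + w) = g v + g w)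
    (hform : ∀ v w, (g v).1 * (g w).2 - (g w).1 * (g v).2 = v.1 * w.2 - w.1 * v.2) (v : ZMod p × ZMod p × ZMod p) :
    h.aut g hadd hform (h.eqv v) = h.eqv (v.1, g v.2) := by
  show h.eqv ((Equiv.refl (ZMod p)).prodCongr g (h.eqv.symm (h.eqv v))) = _
  rw [Equiv.symm_apply_apply]
  rfl

theorem le_center {A : Subgroup h.grp} (hA : A.Characteristic) (hc : IsMulCommutative A) :
    A ≤ Subgroup.center h.grp := by
  intro x hx
  obtain ⟨v, rfl⟩ := h.eqv.surjective x
  rw [h.mem_center_iff']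
  have key : ∀ (g : (ZMod p × ZMod p) ≃ (ZMod p × ZMod p)) (hadd : ∀ v w, g (v + w) = g v + g w)
      (hform : ∀ v w, (g v).1 * (g w).2 - (g w).1 * (g v).2 = v.1 * w.2 - w.1 * v.2),
      v.2.1 * (g v.2).2 - (g v.2).1 * v.2.2 = 0 := by
    intro g hadd hform
    have h1 : h.aut g hadd hform (h.eqv v) ∈ A := by
      have h2 := Subgroup.characteristic_iff_map_eq.1 hA (h.aut g hadd hform)
      rw [← h2]
      exact ⟨_, hx, rfl⟩
    rw [h.aut_eqv] at h1
    have h3 : h.eqv v * h.eqv (v.1, g v.2) = h.eqv (v.1, g v.2) * h.eqv v :=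
      congrArg Subtype.val (hc.is_comm.comm ⟨_, hx⟩ ⟨_, h1⟩)
    exact (h.comm_iff _ _).1 h3
  have h1 := key ⟨fun w => (w.1 + w.2, w.2), fun w => (w.1 - w.2, w.2), fun w => by simp, fun w => by simp⟩
    (fun v w => by
      show ((v + w).1 + (v + w).2, (v + w).2) = (v.1 + v.2 + (w.1 + w.2), v.2 + w.2)
      rw [Prod.fst_add, Prod.snd_add]
      congr 1
      ring)
    (fun v w => by
      show (v.1 + v.2) * w.2 - (w.1 + w.2) * v.2 = _
      ring)
  have h2 := key ⟨fun w => (w.1, w.1 + w.2), fun w => (w.1, w.2 - w.1), fun w => by simp, fun w => by simp⟩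
    (fun v w => by
      show ((v + w).1, (v + w).1 + (v + w).2) = (v.1 + w.1, v.1 + v.2 + (w.1 + w.2))
      rw [Prod.fst_add, Prod.snd_add]
      congr 1
      ring)
    (fun v w => by
      show v.1 * (w.1 + w.2) - w.1 * (v.1 + v.2) = _
      ring)
  have e1 : v.2.1 * v.2.2 - (v.2.1 + v.2.2) * v.2.2 = 0 := h1
  have e2 : v.2.1 * (v.2.1 + v.2.2) - v.2.1 * v.2.2 = 0 := h2
  have f1 : v.2.2 * v.2.2 = 0 := by linear_combination -e1
  have f2 : v.2.1 * v.2.1 = 0 := by linear_combination e2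
  exact Prod.ext (mul_self_eq_zero.1 f2) (mul_self_eq_zero.1 f1)

theorem cyclic_of_characteristic (A : Subgroup h.grp) (hA : A.Characteristic) (hc : IsMulCommutative A) :
    IsCyclic A := by
  have h1 : IsCyclic (Subgroup.center h.grp) := isCyclic_of_prime_card h.card_center
  exact isCyclic_of_injective (Subgroup.inclusion (h.le_center hA hc)) (Subgroup.inclusion_injective _)

end Rel

end Cfsg.Agent.H5.Heis
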